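import Groth.Agent.CohqB.HLes
import Mathlib.Algebra.Group.TypeTags.Hom

/-!
# The seven-term sequence of a short exact sequence of abelian sheaves, in multiplicative form
-/

set_option autoImplicit false
universe u v w w'

open CategoryTheory CategoryTheory.Limits Opposite

namespace K858.Abs

open Groth.Agent.CohqB

variable {C : Type u} [SmallCategory C] {J : GrothendieckTopology C}
  [HasSheafify J AddCommGrpCat.{u}] [HasExt.{u} (Sheaf J AddCommGrpCat.{u})]

theorem map_zero_injective {F G : Sheaf J AddCommGrpCat.{u}} (φ : F ⟶ G) [Mono φ] :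
    Function.Injective (Sheaf.H.map.{u} φ 0) := by
  rw [injective_iff_map_eq_zero]
  intro x hx
  obtain ⟨f, rfl⟩ := Abelian.Ext.homEquiv₀.symm.surjective x
  rw [Sheaf.H.map_apply] at hx
  have h1 : (Abelian.Ext.mk₀ f).comp (Abelian.Ext.mk₀ φ) (zero_add 0) = 0 := hx
  rw [Abelian.Ext.mk₀_comp_mk₀] at h1
  have h2 : f ≫ φ = 0 := by
    apply (Abelian.Ext.mk₀_bijective _ _).1
    rw [h1, Abelian.Ext.mk₀_zero]
  have h3 : f = 0 := by
    rw [← cancel_mono φ, h2, zero_comp]
  subst h3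
  exact Abelian.Ext.mk₀_zero _ _

/-- The seven-term exact sequence, in terms of groups identified with the cohomology groups. -/
theorem seven {S : ShortComplex (Sheaf J AddCommGrpCat.{u})} (hS : S.ShortExact)
    {U₂ U₃ : Type w} [CommGroup U₂] [CommGroup U₃] {P₂ P₃ : Type w'} [CommGroup P₂] [CommGroup P₃]
    (e₂ : Sheaf.H.{u} S.X₂ 0 ≃+ Additive U₂) (e₃ : Sheaf.H.{u} S.X₃ 0 ≃+ Additive U₃)
    (g₂ : Additive P₂ ≃+ Sheaf.H.{u} S.X₂ 1) (g₃ : Additive P₃ ≃+ Sheaf.H.{u} S.X₃ 1)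
    (v : U₂ →* U₃) (p : P₂ →* P₃)
    (hv : ∀ x, e₃ (Sheaf.H.map S.g 0 x) = Additive.ofMul (v (Additive.toMul (e₂ x))))
    (hp : ∀ c, Sheaf.H.map S.g 1 (g₂ (Additive.ofMul c)) = g₃ (Additive.ofMul (p c))) :
    ∃ (ε : Multiplicative (Sheaf.H.{u} S.X₁ 0) →* U₂)
      (δ₀ : U₃ →* Multiplicative (Sheaf.H.{u} S.X₁ 1))
      (α : Multiplicative (Sheaf.H.{u} S.X₁ 1) →* P₂)
      (δ₁ : P₃ →* Multiplicative (Sheaf.H.{u} S.X₁ 2)),
      Function.Injective ε ∧ v.ker = ε.range ∧ δ₀.ker = v.range ∧ α.ker = δ₀.range ∧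
      p.ker = α.range ∧ δ₁.ker = p.range := by
  refine ⟨AddMonoidHom.toMultiplicativeLeft (e₂.toAddMonoidHom.comp (Sheaf.H.map S.f 0)),
    AddMonoidHom.toMultiplicativeRight ((HLes.δ hS 0).comp e₃.symm.toAddMonoidHom),
    AddMonoidHom.toMultiplicativeLeft (g₂.symm.toAddMonoidHom.comp (Sheaf.H.map S.f 1)),
    AddMonoidHom.toMultiplicativeRight ((HLes.δ hS 1).comp g₃.toAddMonoidHom), ?_, ?_, ?_, ?_, ?_,
    ?_⟩
  · have := hS.mono_f
    intro x y h
    exact map_zero_injective S.f (e₂.injective h)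
  · ext w
    rw [MonoidHom.mem_ker, MonoidHom.mem_range]
    obtain ⟨x, hx⟩ := e₂.surjective (Additive.ofMul w)
    have hw : w = Additive.toMul (e₂ x) := by rw [hx]; rfl
    subst hw
    have h0 : Additive.ofMul (v (Additive.toMul (e₂ x))) = 0 ↔ Sheaf.H.map S.g 0 x = 0 := by
      rw [← hv, EmbeddingLike.map_eq_zero_iff]
    constructor
    · intro h
      obtain ⟨y, hy⟩ := HLes.exact₂ hS 0 x (h0.mp (congrArg Additive.ofMul h))
      exact ⟨Multiplicative.ofAdd y, congrArg (fun t => Additive.toMul (e₂ t)) hy⟩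
    · rintro ⟨y, hy⟩
      have h1 : Sheaf.H.map S.f 0 (Multiplicative.toAdd y) = x := e₂.injective hy
      exact h0.mpr (by rw [← h1, HLes.map_g_map_f])
  · ext w
    rw [MonoidHom.mem_ker, MonoidHom.mem_range]
    obtain ⟨x, hx⟩ := e₃.surjective (Additive.ofMul w)
    have hw : w = Additive.toMul (e₃ x) := by rw [hx]; rfl
    subst hw
    have h0 : (HLes.δ hS 0 (e₃.symm (e₃ x)) = 0) ↔ HLes.δ hS 0 x = 0 := by
      rw [AddEquiv.symm_apply_apply]
    constructor
    · intro h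
      obtain ⟨y, hy⟩ := HLes.exact₃ hS 0 x (h0.mp h)
      refine ⟨Additive.toMul (e₂ y), ?_⟩
      have h1 := hv y
      rw [hy] at h1
      exact (congrArg Additive.toMul h1).symm
    · rintro ⟨t, ht⟩
      obtain ⟨y, hy⟩ := e₂.surjective (Additive.ofMul t)
      have h1 := hv y
      rw [hy] at h1
      have h2 : Sheaf.H.map S.g 0 y = x := e₃.injective (h1.trans (congrArg Additive.ofMul ht))
      exact h0.mpr (by rw [← h2, HLes.δ_map_g])
  · ext x
    rw [MonoidHom.mem_ker, MonoidHom.mem_range]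
    have h0 : (g₂.symm (Sheaf.H.map S.f 1 (Multiplicative.toAdd x)) = 0) ↔
        Sheaf.H.map S.f 1 (Multiplicative.toAdd x) = 0 := EmbeddingLike.map_eq_zero_iff
    constructor
    · intro h
      obtain ⟨y, hy⟩ := HLes.exact₁ hS 0 _ (h0.mp h)
      refine ⟨Additive.toMul (e₃ y), ?_⟩
      have h1 : HLes.δ hS 0 (e₃.symm (e₃ y)) = Multiplicative.toAdd x := by
        rw [AddEquiv.symm_apply_apply, hy]
      exact congrArg Multiplicative.ofAdd h1
    · rintro ⟨t, ht⟩
      have h1 : HLes.δ hS 0 (e₃.symm (Additive.ofMul t)) = Multiplicative.toAdd x :=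
        congrArg Multiplicative.toAdd ht
      exact h0.mpr (by rw [← h1, HLes.map_f_δ])
  · ext c
    rw [MonoidHom.mem_ker, MonoidHom.mem_range]
    have h0 : p c = 1 ↔ Sheaf.H.map S.g 1 (g₂ (Additive.ofMul c)) = 0 := by
      rw [hp, EmbeddingLike.map_eq_zero_iff]
      rfl
    constructor
    · intro h
      obtain ⟨y, hy⟩ := HLes.exact₂ hS 1 _ (h0.mp h)
      refine ⟨Multiplicative.ofAdd y, ?_⟩
      have h1 : g₂.symm (Sheaf.H.map S.f 1 y) = Additive.ofMul c := by
        rw [hy, AddEquiv.symm_apply_apply]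
      exact congrArg Additive.toMul h1
    · rintro ⟨y, hy⟩
      have h1 : g₂.symm (Sheaf.H.map S.f 1 (Multiplicative.toAdd y)) = Additive.ofMul c :=
        congrArg Additive.ofMul hy
      rw [AddEquiv.symm_apply_eq] at h1
      exact h0.mpr (by rw [← h1, HLes.map_g_map_f])
  · ext c
    rw [MonoidHom.mem_ker, MonoidHom.mem_range]
    constructor
    · intro h
      obtain ⟨y, hy⟩ := HLes.exact₃ hS 1 (g₃ (Additive.ofMul c)) h
      obtain ⟨c', rfl⟩ := g₂.surjective y
      refine ⟨Additive.toMul c', ?_⟩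
      have h1 := hp (Additive.toMul c')
      exact congrArg Additive.toMul (g₃.injective (h1.symm.trans hy))
    · rintro ⟨c', rfl⟩
      have h1 : HLes.δ hS 1 (g₃ (Additive.ofMul (p c'))) = 0 := by rw [← hp, HLes.δ_map_g]
      exact congrArg Multiplicative.ofAdd h1

end K858.Abs
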