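import Groth.Agent.PicGrp.K858.UnitsHom
import Groth.Agent.Fga.SqZero
import Groth.Agent.PicGrp.K858.Abs

/-!
# The Picard sequence of a first-order thickening

`0 → H⁰(I) → Γ(X')ˣ → Γ(X)ˣ → H¹(I) → Pic X' → Pic X → H²(I)` for a square-zero ideal `I`.
-/

set_option autoImplicit false
universe u

open CategoryTheory CategoryTheory.Limits AlgebraicGeometry Opposite TopologicalSpace

namespace K858.Thick

open Groth.Agent.Fdesc.LocGen K858.UnitsCls K858.UnitsHom K858.Basic
open Groth.Agent.CurvesA.TorsorCls Groth.Agent.CurvesA.TorsorOps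
open Groth.Agent.CohqB

variable {X Y Z : Scheme.{u}}

/-- The class of an invertible module in `H¹(Y, O_Y^×)` maps to the class of its pullback. -/
theorem map_comap (f : X ⟶ Y) {L : Y.Modules} (hL : PicF.IsInvertible L)
    (hf : LocTriv f ((Scheme.Modules.pullback f).obj L)) :
    Sheaf.H.map (UnitsSh.comap f) 1 (show CohTop.H (UnitsSh.unitsAb Y) 1 from
      clsZ (𝟙 Y) L (locTriv_id hL)) = clsZ f ((Scheme.Modules.pullback f).obj L) hf := by
  refine (map_clsOf (F := UnitsSh.unitsAb Y) (F' := US f) (hTop Y) (UnitsSh.comap f)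
    (D (𝟙 Y) L) ((locTriv_id hL).supp_mem ⊤)).trans ?_
  refine clsOf_congr (hTop Y) (D f _) (pushD (F := (UnitsSh.unitsAb Y).obj) (F' := (US f).obj)
    (UnitsSh.comap f).hom (D (𝟙 Y) L)) (fun V p => ⟨pullSec f p.1, p.2.pullSec f⟩) ?_ ?_ _ _
  · intro V W h p
    exact Subtype.ext (res_pullSec f _ _).symm
  · intro V p q
    symm
    apply D_unique
    exact (congrArg (pullSec f) (D_spec (𝟙 Y) L p q)).trans (pullSec_smul f _ _)

/-- `Pic Y → H¹(Y, O_Y^×)` is compatible with pullback to `X`. -/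
theorem map_comap_pic (f : X ⟶ Y) (hf : Good f) (c : Pic Y) :
    Sheaf.H.map (UnitsSh.comap f) 1 (picEquivUnits Y (Additive.ofMul c)) =
      picEquivZ f hf (Additive.ofMul (pull f c)) := by
  induction c using Groth.Agent.Grpsch.PicGrp.ind with | _ L hL => ?_
  exact map_comap f hL (hf _ (isInvertible_pullback f hL))

variable (I : X.IdealSheafData) (hI : I ^ 2 = ⊥)

/-- The truncated exponential sequence. -/
noncomputable def seq : ShortComplex (CohTop.Ab X.toTopCat) :=
  ShortComplex.mk (X₂ := UnitsSh.unitsAb X) (X₃ := US I.subschemeι)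
    (Groth.Agent.Fga.SqZero.expMap hI) (UnitsSh.comap I.subschemeι)
    (Groth.Agent.Fga.SqZero.expSeq hI).zero

theorem seq_shortExact : (seq I hI).ShortExact := Groth.Agent.Fga.SqZero.expSeq_shortExact hI

/-- Global sections of `f_* O_X^×`. -/
noncomputable def h0 (f : X ⟶ Y) : CohTop.H (US f) 0 ≃+ Additive (Γ(X, ⊤))ˣ :=
  (Sheaf.H.equiv₀ (US f) (hTop Y)).trans (AddEquiv.refl _)

/-- Global sections of `O_X^×`. -/
noncomputable def h0' (X : Scheme.{u}) : CohTop.H (UnitsSh.unitsAb X) 0 ≃+ Additive (Γ(X, ⊤))ˣ :=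
  (Sheaf.H.equiv₀ (UnitsSh.unitsAb X) (hTop X)).trans (AddEquiv.refl _)

theorem h0_comap (f : X ⟶ Y) (x : CohTop.H (UnitsSh.unitsAb Y) 0) :
    h0 f (Sheaf.H.map (UnitsSh.comap f) 0 x) =
      Additive.ofMul (Units.map f.appTop.hom.toMonoidHom (Additive.toMul (h0' Y x))) := by
  change Sheaf.H.equiv₀ (US f) (hTop Y) (Sheaf.H.map (UnitsSh.comap f) 0 x) = _
  rw [← Sheaf.H.equiv₀_naturality]
  rfl

/-- the map on units of global functions -/
noncomputable abbrev um (f : X ⟶ Y) : (Γ(Y, ⊤))ˣ →* (Γ(X, ⊤))ˣ :=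
  Units.map f.appTop.hom.toMonoidHom

theorem h0_comap' (f : X ⟶ Y) (x : CohTop.H (UnitsSh.unitsAb Y) 0) :
    Additive.toMul (h0 f (Sheaf.H.map (UnitsSh.comap f) 0 x)) =
      um f (Additive.toMul (h0' Y x)) := by
  rw [h0_comap]
  rfl

include hI in
/-- The Picard sequence of a first-order thickening (library Picard groups). -/
theorem seven : ∃ (ε : Multiplicative (Coh.HH X (ClSub.idealMod I) 0) →* (Γ(X, ⊤))ˣ)
      (δ₀ : (Γ(I.subscheme, ⊤))ˣ →* Multiplicative (Coh.HH X (ClSub.idealMod I) 1))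
      (α : Multiplicative (Coh.HH X (ClSub.idealMod I) 1) →* Pic X)
      (δ₁ : Pic I.subscheme →* Multiplicative (Coh.HH X (ClSub.idealMod I) 2)),
      Function.Injective ε ∧ (um I.subschemeι).ker = ε.range ∧ δ₀.ker = (um I.subschemeι).range ∧
      α.ker = δ₀.range ∧ (pull I.subschemeι).ker = α.range ∧
      δ₁.ker = (pull I.subschemeι).range :=
  K858.Abs.seven (seq_shortExact I hI) (h0' X) (h0 I.subschemeι) (picEquivUnits X)
    (picEquivZ I.subschemeι (good_of_isClosedImmersion I.subschemeι)) (um I.subschemeι)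
    (pull I.subschemeι) (fun x => h0_comap I.subschemeι x)
    (fun c => map_comap_pic I.subschemeι (good_of_isClosedImmersion I.subschemeι) c)

include hI in
/-- The Picard sequence of a first-order thickening. -/
theorem seven' [PicGrp.Law X] [PicGrp.Law I.subscheme] (hi : PicGrp.PullMul I.subschemeι) :
    ∃ (ε : Multiplicative (Coh.HH X (ClSub.idealMod I) 0) →* (Γ(X, ⊤))ˣ)
      (δ₀ : (Γ(I.subscheme, ⊤))ˣ →* Multiplicative (Coh.HH X (ClSub.idealMod I) 1))
      (α : Multiplicative (Coh.HH X (ClSub.idealMod I) 1) →* PicLoc.PicSet X)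
      (δ₁ : PicLoc.PicSet I.subscheme →* Multiplicative (Coh.HH X (ClSub.idealMod I) 2)),
      Function.Injective ε ∧ (um I.subschemeι).ker = ε.range ∧ δ₀.ker = (um I.subschemeι).range ∧
      α.ker = δ₀.range ∧ (PicGrp.pullHom I.subschemeι hi).ker = α.range ∧
      δ₁.ker = (PicGrp.pullHom I.subschemeι hi).range :=
  K858.Abs.seven (seq_shortExact I hI) (h0' X) (h0 I.subschemeι)
    ((MulEquiv.toAdditive (ofPic X).symm).trans (picEquivUnits X))
    ((MulEquiv.toAdditive (ofPic I.subscheme).symm).trans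
      (picEquivZ I.subschemeι (good_of_isClosedImmersion I.subschemeι))) (um I.subschemeι)
    (PicGrp.pullHom I.subschemeι hi) (fun x => h0_comap I.subschemeι x)
    (fun c => (map_comap_pic I.subschemeι (good_of_isClosedImmersion I.subschemeι)
      ((ofPic X).symm c)).trans (congrArg (fun t => picEquivZ I.subschemeι
        (good_of_isClosedImmersion I.subschemeι) (Additive.ofMul t))
        (ofPic_symm_pullHom I.subschemeι hi c).symm))

end K858.Thick
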