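import Groth.Prelude.Def_PicGrp
import Groth.Agent.Grpsch.PicGrp

/-!
# `PicLoc.PicSet X` with the group law `PicGrp.Law` versus the library's `Grpsch.PicGrp.Pic X`

* `ofPic X : Pic X ≃* PicLoc.PicSet X` (under `[PicGrp.Law X]`), `ofPic (mk L hL) = PicGrp.cls L hL`;
* `ofPic_pull : PicGrp.pullHom f h (ofPic Y c) = ofPic X (pull f c)`;
* `law X : PicGrp.Law X` (the group law exists) and `pullMul f : PicGrp.PullMul f`.
-/

set_option autoImplicit false
universe u

open CategoryTheory CategoryTheory.Limits AlgebraicGeometry Opposite TopologicalSpace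

namespace K858.Basic

open Groth.Agent.Fdesc.LocGen

/-- The library's Picard group. -/
abbrev Pic (X : Scheme.{u}) : Type (u + 1) := Groth.Agent.Grpsch.PicGrp.Pic X

/-- the class of an invertible module in the library's Picard group -/
noncomputable abbrev mk {X : Scheme.{u}} (L : X.Modules) (hL : PicF.IsInvertible L) : Pic X :=
  Groth.Agent.Grpsch.PicGrp.mk L hL

/-- pullback on the library's Picard groups -/
noncomputable abbrev pull {X Y : Scheme.{u}} (f : X ⟶ Y) : Pic Y →* Pic X :=
  Groth.Agent.Grpsch.PicGrp.pull f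

/-- The underlying bijection. -/
noncomputable def setEquiv (X : Scheme.{u}) : Pic X ≃ PicLoc.PicSet X :=
  Equiv.ofBijective (Quotient.lift (s := Groth.Agent.Grpsch.PicGrp.isoSetoid X)
    (fun L => PicGrp.cls L.1 L.2) (fun L M h => (PicGrp.cls_eq_cls_iff L.2 M.2).mpr h)) (by
    constructor
    · intro a b
      induction a using Groth.Agent.Grpsch.PicGrp.ind with | _ L hL => ?_
      induction b using Groth.Agent.Grpsch.PicGrp.ind with | _ M hM => ?_
      intro h
      exact (Groth.Agent.Grpsch.PicGrp.mk_eq_iff hL hM).mpr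
        ((PicGrp.cls_eq_cls_iff hL hM).mp h)
    · intro c
      obtain ⟨L, hL, rfl⟩ := PicGrp.exists_eq_cls c
      exact ⟨mk L hL, rfl⟩)

theorem setEquiv_mk {X : Scheme.{u}} (L : X.Modules) (hL : PicF.IsInvertible L) :
    setEquiv X (mk L hL) = PicGrp.cls L hL := rfl

theorem setEquiv_mul_val {X : Scheme.{u}} (a b : Pic X) :
    (setEquiv X (a * b)).1 = PicGrp.mulCl (setEquiv X a).1 (setEquiv X b).1 := by
  induction a using Groth.Agent.Grpsch.PicGrp.ind with | _ L hL => ?_
  induction b using Groth.Agent.Grpsch.PicGrp.ind with | _ M hM => ?_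
  rfl

/-- The Picard group law exists on every scheme. -/
noncomputable def law (X : Scheme.{u}) : PicGrp.Law X where
  toCommGroup := (setEquiv X).symm.commGroup
  mul_val a b := by
    have h := setEquiv_mul_val ((setEquiv X).symm a) ((setEquiv X).symm b)
    rw [Equiv.apply_symm_apply, Equiv.apply_symm_apply] at h
    exact h
  one_eq := rfl

/-- Pullback of classes is multiplicative. -/
theorem pullMul {X Y : Scheme.{u}} (f : X ⟶ Y) : PicGrp.PullMul f := by
  rintro _ _ ⟨L, rfl, hL⟩ ⟨M, rfl, hM⟩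
  exact Quot.sound ⟨@asIso _ _ _ _ (Groth.Agent.Grpsch.PicGrp.pullTensor f L M)
    (Groth.Agent.Grpsch.PicGrp.isIso_pullTensor f hL hM)⟩

/-- The comparison of the two Picard groups. -/
noncomputable def ofPic (X : Scheme.{u}) [PicGrp.Law X] : Pic X ≃* PicLoc.PicSet X :=
  { setEquiv X with
    map_mul' := fun a b => Subtype.ext (by
      rw [PicGrp.mul_val]
      exact setEquiv_mul_val a b) }

@[simp] theorem ofPic_mk {X : Scheme.{u}} [PicGrp.Law X] (L : X.Modules)
    (hL : PicF.IsInvertible L) : ofPic X (mk L hL) = PicGrp.cls L hL := rfl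

@[simp] theorem ofPic_symm_cls {X : Scheme.{u}} [PicGrp.Law X] (L : X.Modules)
    (hL : PicF.IsInvertible L) : (ofPic X).symm (PicGrp.cls L hL) = mk L hL := by
  rw [MulEquiv.symm_apply_eq]
  rfl

theorem ofPic_pull {X Y : Scheme.{u}} [PicGrp.Law X] [PicGrp.Law Y] (f : X ⟶ Y)
    (h : PicGrp.PullMul f) (c : Pic Y) :
    PicGrp.pullHom f h (ofPic Y c) = ofPic X (pull f c) := by
  induction c using Groth.Agent.Grpsch.PicGrp.ind with | _ L hL => ?_
  rfl

theorem ofPic_symm_pullHom {X Y : Scheme.{u}} [PicGrp.Law X] [PicGrp.Law Y] (f : X ⟶ Y)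
    (h : PicGrp.PullMul f) (c : PicLoc.PicSet Y) :
    (ofPic X).symm (PicGrp.pullHom f h c) = pull f ((ofPic Y).symm c) := by
  rw [MulEquiv.symm_apply_eq, ← ofPic_pull f h, MulEquiv.apply_symm_apply]

end K858.Basic
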