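import Groth.Agent.PicGrp.K858.MVSeq
import Groth.Agent.S0981

/-!
# Picard groups modulo the base of a union of two closed subschemes
-/

set_option autoImplicit false
universe u

open CategoryTheory CategoryTheory.Limits AlgebraicGeometry Opposite TopologicalSpace

namespace K858.MVFinal

open K858.Basic K858.Thick K858.MVSeq

variable {X B : Scheme.{u}} (π : X ⟶ B) (I J : X.IdealSheafData) (hIJ : I ⊓ J = ⊥)

theorem um_surjective
    [Flat ((I ⊔ J).subschemeι ≫ π)] [IsProper ((I ⊔ J).subschemeι ≫ π)]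
    [LocallyOfFinitePresentation ((I ⊔ J).subschemeι ≫ π)]
    (hfib : ∀ (K : Type u) [Field K] [IsAlgClosed K] (g : Spec (CommRingCat.of K) ⟶ B),
      IsReduced (pullback ((I ⊔ J).subschemeι ≫ π) g) ∧
        ConnectedSpace ↥(pullback ((I ⊔ J).subschemeι ≫ π) g)) :
    Function.Surjective (um (Scheme.IdealSheafData.inclusion (le_sup_left : I ≤ I ⊔ J))) := by
  intro w
  have h1 : IsIso (((I ⊔ J).subschemeι ≫ π).app ⊤) :=
    Groth.Agent.S0981.result ((I ⊔ J).subschemeι ≫ π) hfib ⊤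
  have h2 : Scheme.IdealSheafData.inclusion (le_sup_left : I ≤ I ⊔ J) ≫ (I.subschemeι ≫ π) =
      (I ⊔ J).subschemeι ≫ π := by
    rw [← Category.assoc, Scheme.IdealSheafData.inclusion_subschemeι]
  have h3 : IsIso ((I ⊔ J).subschemeι ≫ π).appTop := h1
  let e : Γ(B, ⊤) ≃+* Γ((I ⊔ J).subscheme, ⊤) :=
    (@asIso _ _ _ _ ((I ⊔ J).subschemeι ≫ π).appTop h3).commRingCatIsoToRingEquiv
  refine ⟨um (I.subschemeι ≫ π) (Units.mapEquiv e.symm.toMulEquiv w), ?_⟩
  apply Units.ext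
  change (Scheme.IdealSheafData.inclusion (le_sup_left : I ≤ I ⊔ J)).appTop
    ((I.subschemeι ≫ π).appTop (e.symm w)) = w
  rw [← CommRingCat.comp_apply, ← Scheme.Hom.comp_appTop, h2]
  exact e.apply_symm_apply _

include hIJ in
theorem part_a (hu : Function.Surjective (um (Scheme.IdealSheafData.inclusion
      (le_sup_left : I ≤ I ⊔ J))))
    (s : B ⟶ (I ⊔ J).subscheme) (hs : s ≫ (I ⊔ J).subschemeι ≫ π = 𝟙 B)
    (c : Pic X) (b₁ b₂ : Pic B) (h₁ : pull I.subschemeι c = pull (I.subschemeι ≫ π) b₁)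
    (h₂ : pull J.subschemeι c = pull (J.subschemeι ≫ π) b₂) : c = pull π b₁ := by
  have e1 := Groth.Agent.Grpsch.PicGrp.pull_comp
    (Scheme.IdealSheafData.inclusion (le_sup_left : I ≤ I ⊔ J)) I.subschemeι c
  have e2 := Groth.Agent.Grpsch.PicGrp.pull_comp
    (Scheme.IdealSheafData.inclusion (le_sup_right : J ≤ I ⊔ J)) J.subschemeι c
  rw [Scheme.IdealSheafData.inclusion_subschemeι] at e1 e2
  have e3 : pull ((I ⊔ J).subschemeι ≫ π) b₁ = pull ((I ⊔ J).subschemeι ≫ π) b₂ := by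
    have f1 := Groth.Agent.Grpsch.PicGrp.pull_comp
      (Scheme.IdealSheafData.inclusion (le_sup_left : I ≤ I ⊔ J)) (I.subschemeι ≫ π) b₁
    have f2 := Groth.Agent.Grpsch.PicGrp.pull_comp
      (Scheme.IdealSheafData.inclusion (le_sup_right : J ≤ I ⊔ J)) (J.subschemeι ≫ π) b₂
    rw [← Category.assoc, Scheme.IdealSheafData.inclusion_subschemeι] at f1 f2
    rw [f1, f2, ← h₁, ← h₂]
    exact e1.symm.trans e2
  have e4 : b₁ = b₂ := by
    have g1 := Groth.Agent.Grpsch.PicGrp.pull_comp s ((I ⊔ J).subschemeι ≫ π) b₁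
    have g2 := Groth.Agent.Grpsch.PicGrp.pull_comp s ((I ⊔ J).subschemeι ≫ π) b₂
    rw [hs, Groth.Agent.Grpsch.PicGrp.pull_id] at g1 g2
    rw [g1, g2]
    exact congrArg (pull s) e3
  subst e4
  have k1 : pull I.subschemeι (c * (pull π b₁)⁻¹) = 1 := by
    rw [map_mul, map_inv, h₁, mul_inv_eq_one]
    exact Groth.Agent.Grpsch.PicGrp.pull_comp _ _ _
  have k2 : pull J.subschemeι (c * (pull π b₁)⁻¹) = 1 := by
    rw [map_mul, map_inv, h₂, mul_inv_eq_one]
    exact Groth.Agent.Grpsch.PicGrp.pull_comp _ _ _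
  exact mul_inv_eq_one.mp (pic_eq_one hIJ hu _ k1 k2)

include hIJ in
theorem part_b (y : Pic I.subscheme) (z : Pic J.subscheme) (b : Pic B)
    (h : pull (Scheme.IdealSheafData.inclusion (le_sup_left : I ≤ I ⊔ J)) y =
      pull (Scheme.IdealSheafData.inclusion (le_sup_right : J ≤ I ⊔ J)) z *
        pull ((I ⊔ J).subschemeι ≫ π) b) :
    ∃ c : Pic X, pull I.subschemeι c = y * pull (I.subschemeι ≫ π) b⁻¹ ∧
      pull J.subschemeι c = z := by
  apply exists_pic_glue hIJ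
  have f1 := Groth.Agent.Grpsch.PicGrp.pull_comp
    (Scheme.IdealSheafData.inclusion (le_sup_left : I ≤ I ⊔ J)) (I.subschemeι ≫ π) b
  rw [← Category.assoc, Scheme.IdealSheafData.inclusion_subschemeι] at f1
  rw [map_mul, map_inv, map_inv, h, mul_inv_eq_iff_eq_mul]
  exact congrArg _ f1

end K858.MVFinal
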