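import Mathlib.AlgebraicGeometry.IdealSheaf.Subscheme
import Groth.Agent.Fdesc.LocGen

/-!
# Functions on a union of two closed subschemes

`X` the union of `V(I)` and `V(J)`, `I ⊓ J = ⊥`, `W = V(I ⊔ J)`: the sequence
`0 → O_X → O_Y × O_Z → O_W` is exact on sections over every open (`ext`, `exists_glue`), and units of
`W` lift locally to units of `X` (`exists_local_lift`).
-/

set_option autoImplicit false
universe u

open CategoryTheory CategoryTheory.Limits AlgebraicGeometry Opposite TopologicalSpace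

namespace K858.MVSec

open Groth.Agent.Fdesc.LocGen

variable {X : Scheme.{u}} (I J : X.IdealSheafData)

/-- restriction of functions to the closed subscheme -/
noncomputable abbrev rI (I : X.IdealSheafData) (V : X.Opens) :
    Γ(X, V) →+* Γ(I.subscheme, I.subschemeι ⁻¹ᵁ V) := (I.subschemeι.app V).hom

theorem rI_ores (I : X.IdealSheafData) {U V : X.Opens} (h : V ≤ U) (a : Γ(X, U)) :
    rI I V (ores h a) = ores (I.subschemeι.preimage_mono h) (rI I U a) :=
  congr($(I.subschemeι.naturality (homOfLE h).op) a)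

theorem pre_le {I J : X.IdealSheafData} (h : I ≤ J) (V : X.Opens) :
    J.subschemeι ⁻¹ᵁ V ≤ Scheme.IdealSheafData.inclusion h ⁻¹ᵁ (I.subschemeι ⁻¹ᵁ V) := by
  rw [← Scheme.Hom.comp_preimage, Scheme.IdealSheafData.inclusion_subschemeι]

/-- restriction from `V(I)` to `V(J)` for `I ≤ J` -/
noncomputable def rr {I J : X.IdealSheafData} (h : I ≤ J) (V : X.Opens) :
    Γ(I.subscheme, I.subschemeι ⁻¹ᵁ V) →+* Γ(J.subscheme, J.subschemeι ⁻¹ᵁ V) :=
  ((Scheme.IdealSheafData.inclusion h).appLE (I.subschemeι ⁻¹ᵁ V) (J.subschemeι ⁻¹ᵁ V)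
    (pre_le h V)).hom

theorem rr_rI {I J : X.IdealSheafData} (h : I ≤ J) (V : X.Opens) (a : Γ(X, V)) :
    rr h V (rI I V a) = rI J V a := by
  have h1 : I.subschemeι.app V ≫ (Scheme.IdealSheafData.inclusion h).appLE
      (I.subschemeι ⁻¹ᵁ V) (J.subschemeι ⁻¹ᵁ V) (pre_le h V) = J.subschemeι.app V := by
    rw [← Scheme.Hom.appLE_eq_app, Scheme.Hom.appLE_comp_appLE, ← Scheme.Hom.appLE_eq_app]
    congr 1
    exact Scheme.IdealSheafData.inclusion_subschemeι h
  exact congr($h1 a)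

theorem ores_rr {I J : X.IdealSheafData} (h : I ≤ J) {U V : X.Opens} (hVU : V ≤ U)
    (s : Γ(I.subscheme, I.subschemeι ⁻¹ᵁ U)) :
    ores (J.subschemeι.preimage_mono hVU) (rr h U s) =
      rr h V (ores (I.subschemeι.preimage_mono hVU) s) := by
  unfold rr ores
  rw [← CommRingCat.comp_apply, ← CommRingCat.comp_apply, Scheme.Hom.appLE_map,
    Scheme.Hom.map_appLE]

theorem exists_affine {U : X.Opens} {x : X} (hx : x ∈ U) :
    ∃ V : X.affineOpens, x ∈ V.1 ∧ V.1 ≤ U := by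
  obtain ⟨_, ⟨V, hV, rfl⟩, hxV, hVU⟩ := X.isBasis_affineOpens.exists_subset_of_mem_open hx U.2
  exact ⟨⟨V, hV⟩, hxV, hVU⟩

/-- the affine opens inside `U` -/
abbrev Aff (U : X.Opens) := {V : X.affineOpens // V.1 ≤ U}

theorem aff_cover (U : X.Opens) : U ≤ ⨆ V : Aff U, V.1.1 := by
  intro x hx
  obtain ⟨V, hxV, hVU⟩ := exists_affine hx
  exact Opens.mem_iSup.mpr ⟨⟨V, hVU⟩, hxV⟩

theorem rI_eq_zero_iff (V : X.affineOpens) (a : Γ(X, V.1)) : rI I V.1 a = 0 ↔ a ∈ I.ideal V := by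
  rw [← I.ker_subschemeι_app, RingHom.mem_ker]

variable {I J} (hIJ : I ⊓ J = ⊥)

include hIJ in
theorem eq_zero {V : X.Opens} (a : Γ(X, V)) (h1 : rI I V a = 0) (h2 : rI J V a = 0) : a = 0 := by
  refine ores_ext (fun W : Aff V => W.1.1) (fun W => W.2) (aff_cover V) fun W => ?_
  rw [map_zero]
  have h3 : ores W.2 a ∈ (I ⊓ J).ideal W.1 := by
    refine ⟨(rI_eq_zero_iff I W.1 _).mp ?_, (rI_eq_zero_iff J W.1 _).mp ?_⟩
    · rw [rI_ores, h1, map_zero]
    · rw [rI_ores, h2, map_zero]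
  rw [hIJ] at h3
  exact h3

include hIJ in
theorem ext {V : X.Opens} {a b : Γ(X, V)} (h1 : rI I V a = rI I V b) (h2 : rI J V a = rI J V b) :
    a = b := by
  rw [← sub_eq_zero]
  exact eq_zero hIJ _ (by rw [map_sub, h1, sub_self]) (by rw [map_sub, h2, sub_self])

variable (I J) in
theorem exists_glue_affine (V : X.affineOpens) (s : Γ(I.subscheme, I.subschemeι ⁻¹ᵁ V.1))
    (t : Γ(J.subscheme, J.subschemeι ⁻¹ᵁ V.1))
    (h : rr (le_sup_left : I ≤ I ⊔ J) V.1 s = rr (le_sup_right : J ≤ I ⊔ J) V.1 t) :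
    ∃ c : Γ(X, V.1), rI I V.1 c = s ∧ rI J V.1 c = t := by
  obtain ⟨s', rfl⟩ := I.subschemeι_app_surjective V s
  obtain ⟨t', rfl⟩ := J.subschemeι_app_surjective V t
  have h1 : rI (I ⊔ J) V.1 s' = rI (I ⊔ J) V.1 t' :=
    (rr_rI le_sup_left V.1 s').symm.trans (h.trans (rr_rI le_sup_right V.1 t'))
  have h2 : s' - t' ∈ (I ⊔ J).ideal V := (rI_eq_zero_iff (I ⊔ J) V _).mp (by
    rw [map_sub, h1, sub_self])
  have h3 : s' - t' ∈ I.ideal V ⊔ J.ideal V := h2
  obtain ⟨x, hx, y, hy, hxy⟩ := Submodule.mem_sup.mp h3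
  refine ⟨s' - x, ?_, ?_⟩
  · change rI I V.1 (s' - x) = rI I V.1 s'
    rw [map_sub, (rI_eq_zero_iff I V x).mpr hx, sub_zero]
  · have h4 : s' - x = t' + y := by linear_combination -hxy
    change rI J V.1 (s' - x) = rI J V.1 t'
    rw [h4, map_add, (rI_eq_zero_iff J V y).mpr hy, add_zero]

include hIJ in
theorem exists_glue (V : X.Opens) (s : Γ(I.subscheme, I.subschemeι ⁻¹ᵁ V))
    (t : Γ(J.subscheme, J.subschemeι ⁻¹ᵁ V))
    (h : rr (le_sup_left : I ≤ I ⊔ J) V s = rr (le_sup_right : J ≤ I ⊔ J) V t) :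
    ∃ c : Γ(X, V), rI I V c = s ∧ rI J V c = t := by
  have h1 : ∀ W : Aff V, ∃ c : Γ(X, W.1.1),
      rI I W.1.1 c = ores (I.subschemeι.preimage_mono W.2) s ∧
      rI J W.1.1 c = ores (J.subschemeι.preimage_mono W.2) t := fun W =>
    exists_glue_affine I J W.1 _ _
      (by rw [← ores_rr _ W.2, ← ores_rr _ W.2, h])
  choose c hc1 hc2 using h1
  obtain ⟨d, hd⟩ := ores_glue (V := V) (fun W : Aff V => W.1.1) (fun W => W.2) (aff_cover V) c (by
    intro W W'
    apply ext hIJ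
    · rw [rI_ores, rI_ores, hc1, hc1, ores_ores, ores_ores]
    · rw [rI_ores, rI_ores, hc2, hc2, ores_ores, ores_ores])
  refine ⟨d, ?_, ?_⟩
  · refine ores_ext (fun W : Aff V => I.subschemeι ⁻¹ᵁ W.1.1)
      (fun W => I.subschemeι.preimage_mono W.2) ?_ fun W => ?_
    · intro x hx
      obtain ⟨W, hW⟩ := Opens.mem_iSup.mp (aff_cover V (show I.subschemeι x ∈ V from hx))
      exact Opens.mem_iSup.mpr ⟨W, hW⟩
    · exact (rI_ores I W.2 d).symm.trans (by rw [hd, hc1])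
  · refine ores_ext (fun W : Aff V => J.subschemeι ⁻¹ᵁ W.1.1)
      (fun W => J.subschemeι.preimage_mono W.2) ?_ fun W => ?_
    · intro x hx
      obtain ⟨W, hW⟩ := Opens.mem_iSup.mp (aff_cover V (show J.subschemeι x ∈ V from hx))
      exact Opens.mem_iSup.mpr ⟨W, hW⟩
    · exact (rI_ores J W.2 d).symm.trans (by rw [hd, hc2])

/-- Units on a closed subscheme lift locally. -/
theorem exists_local_lift (K : X.IdealSheafData) (V : X.Opens)
    (w : (Γ(K.subscheme, K.subschemeι ⁻¹ᵁ V))ˣ) (x : X) (hx : x ∈ V) :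
    ∃ (U : X.Opens) (hU : U ≤ V) (c : (Γ(X, U))ˣ), x ∈ U ∧
      rI K U (c : Γ(X, U)) = ores (K.subschemeι.preimage_mono hU) (w : Γ(K.subscheme, _)) := by
  by_cases hxK : x ∈ Set.range K.subschemeι
  · obtain ⟨y, rfl⟩ := hxK
    obtain ⟨W, hxW, hWV⟩ := exists_affine hx
    obtain ⟨c, hc⟩ := K.subschemeι_app_surjective W (ores (K.subschemeι.preimage_mono hWV) w)
    have hc : rI K W.1 c = ores (K.subschemeι.preimage_mono hWV) (w : Γ(K.subscheme, _)) := hc
    let U : X.Opens := X.basicOpen c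
    have hUW : U ≤ W.1 := X.basicOpen_le c
    have hu : IsUnit (ores hUW c) := RingedSpace.isUnit_res_basicOpen _ c
    refine ⟨U, hUW.trans hWV, hu.unit, ?_, ?_⟩
    · have h1 : K.subschemeι ⁻¹ᵁ U = K.subscheme.basicOpen (rI K W.1 c) :=
        Scheme.preimage_basicOpen K.subschemeι c
      have h2 : IsUnit (rI K W.1 c) := by
        rw [hc]
        exact w.isUnit.map _
      have h3 : K.subscheme.basicOpen (rI K W.1 c) = K.subschemeι ⁻¹ᵁ W.1 :=
        Scheme.basicOpen_of_isUnit _ h2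
      change y ∈ K.subschemeι ⁻¹ᵁ U
      rw [h1, h3]
      exact hxW
    · change rI K U (ores hUW c) = _
      rw [rI_ores, hc, ores_ores]
  · let U : X.Opens := V ⊓ ⟨(Set.range K.subschemeι)ᶜ,
      K.subschemeι.isClosedEmbedding.isClosed_range.isOpen_compl⟩
    have hU : K.subschemeι ⁻¹ᵁ U = ⊥ := by
      ext z
      change (K.subschemeι z ∈ V ∧ K.subschemeι z ∈ (Set.range K.subschemeι)ᶜ) ↔ False
      exact ⟨fun h => h.2 ⟨z, rfl⟩, False.elim⟩
    have h1 : Subsingleton Γ(K.subscheme, K.subschemeι ⁻¹ᵁ U) := by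
      rw [hU]
      exact CommRingCat.subsingleton_of_isTerminal (TopCat.Sheaf.isTerminalOfEmpty K.subscheme.sheaf)
    exact ⟨U, inf_le_left, 1, ⟨hx, hxK⟩, Subsingleton.elim _ _⟩

end K858.MVSec
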