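import Groth.Agent.PicGrp.K858.MVSec
import Groth.Agent.PicGrp.K858.Thick

/-!
# The Mayer–Vietoris sequence of units for a union of two closed subschemes

`0 → O_X^× → i_* O_Y^× ⊞ j_* O_Z^× → k_* O_W^× → 0` (`mv_shortExact`).
-/

set_option autoImplicit false
universe u

open CategoryTheory CategoryTheory.Limits AlgebraicGeometry Opposite TopologicalSpace

namespace K858.MVSeq

open Groth.Agent.Fdesc.LocGen K858.UnitsCls K858.UnitsHom K858.Basic K858.MVSec K858.Thick
open Groth.Agent.CohtopA.Sec (Γs r m m_r m_comp m_id mono_of_injective epi_of_local)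

variable {X Y Z : Scheme.{u}}

/-- restriction of units along `a : X ⟶ Y` over `Z`. -/
noncomputable def resMap' (a : X ⟶ Y) (i : Y ⟶ Z) (k : X ⟶ Z) (h : a ≫ i = k) : US i ⟶ US k :=
  resMap a i ≫ eqToHom (by rw [h])

theorem pre_le' (a : X ⟶ Y) (i : Y ⟶ Z) (k : X ⟶ Z) (h : a ≫ i = k) (V : Z.Opens) :
    k ⁻¹ᵁ V ≤ a ⁻¹ᵁ (i ⁻¹ᵁ V) := by
  rw [← Scheme.Hom.comp_preimage, h]

theorem toU_resMap' (a : X ⟶ Y) (i : Y ⟶ Z) (k : X ⟶ Z) (h : a ≫ i = k) {V : Z.Opens}
    (s : (US i).obj.obj (op V)) :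
    ((toU ((resMap' a i k h).hom.app (op V) s) : (Γ(X, k ⁻¹ᵁ V))ˣ) : Γ(X, k ⁻¹ᵁ V)) =
      a.appLE (i ⁻¹ᵁ V) (k ⁻¹ᵁ V) (pre_le' a i k h V) (toU s : Γ(Y, i ⁻¹ᵁ V)) := by
  subst h
  have h1 : resMap' a i (a ≫ i) rfl = resMap a i := by
    unfold resMap'
    rw [eqToHom_refl, Category.comp_id]
  rw [h1]
  exact congr($((Scheme.Hom.appLE_eq_app a (U := i ⁻¹ᵁ V)).symm) (toU s : Γ(Y, i ⁻¹ᵁ V)))

theorem map_resMap_pic' (a : X ⟶ Y) (i : Y ⟶ Z) (k : X ⟶ Z) (h : a ≫ i = k) (hi : Good i)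
    (hk : Good k) (c : Pic Y) :
    Sheaf.H.map (resMap' a i k h) 1 (picEquivZ i hi (Additive.ofMul c)) =
      picEquivZ k hk (Additive.ofMul (pull a c)) := by
  subst h
  have h1 : resMap' a i (a ≫ i) rfl = resMap a i := by
    unfold resMap'
    rw [eqToHom_refl, Category.comp_id]
  rw [h1]
  exact map_resMap_pic a i hi hk c

variable (I J : X.IdealSheafData)

/-- restriction `i_* O_Y^× → k_* O_W^×` for closed subschemes. -/
noncomputable def resI {I J : X.IdealSheafData} (h : I ≤ J) : US I.subschemeι ⟶ US J.subschemeι :=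
  resMap' (Scheme.IdealSheafData.inclusion h) I.subschemeι J.subschemeι
    (Scheme.IdealSheafData.inclusion_subschemeι h)

theorem toU_resI {I J : X.IdealSheafData} (h : I ≤ J) {V : X.Opens}
    (s : Γs (US I.subschemeι) V) :
    ((toU (m (resI h) V s) : (Γ(J.subscheme, J.subschemeι ⁻¹ᵁ V))ˣ) : Γ(J.subscheme, _)) =
      rr h V (toU (f := I.subschemeι) s : Γ(I.subscheme, _)) :=
  toU_resMap' _ _ _ _ s

/-- The map `O_X^× → i_* O_Y^×`. -/
noncomputable abbrev com (I : X.IdealSheafData) : UnitsSh.unitsAb X ⟶ US I.subschemeι :=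
  UnitsSh.comap I.subschemeι

/-- a section of `O_X^×` as a unit -/
noncomputable def un {V : X.Opens} : Γs (UnitsSh.unitsAb X) V ≃ (Γ(X, V))ˣ := Additive.toMul

theorem toU_com (I : X.IdealSheafData) {V : X.Opens} (s : Γs (UnitsSh.unitsAb X) V) :
    ((toU (f := I.subschemeι) (m (com I) V s) : (Γ(I.subscheme, I.subschemeι ⁻¹ᵁ V))ˣ) :
      Γ(I.subscheme, _)) = rI I V (un s : Γ(X, V)) := rfl

theorem com_resI {I J : X.IdealSheafData} (h : I ≤ J) : com I ≫ resI h = com J := by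
  ext V s
  apply toU.injective
  apply Units.ext
  refine (toU_resI h (V := V.unop) (m (com I) V.unop s)).trans ?_
  rw [toU_com, rr_rI]
  rfl

/-- The Mayer–Vietoris sequence of units. -/
noncomputable def mv : ShortComplex (CohTop.Ab X.toTopCat) :=
  ShortComplex.mk (biprod.lift (com I) (com J))
    (biprod.desc (resI (le_sup_left : I ≤ I ⊔ J)) (-resI (le_sup_right : J ≤ I ⊔ J))) (by
    rw [biprod.lift_desc, Preadditive.comp_neg, com_resI, com_resI, add_neg_cancel])

variable {A B : CohTop.Ab X.toTopCat}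

theorem m_add {A B : CohTop.Ab X.toTopCat} (φ ψ : A ⟶ B) (V : X.Opens) (s : Γs A V) :
    m (φ + ψ) V s = m φ V s + m ψ V s := rfl

theorem m_neg {A B : CohTop.Ab X.toTopCat} (φ : A ⟶ B) (V : X.Opens) (s : Γs A V) :
    m (-φ) V s = -m φ V s := rfl

theorem biprod_sec (V : X.Opens) (s : Γs (A ⊞ B) V) :
    s = m biprod.inl V (m biprod.fst V s) + m biprod.inr V (m biprod.snd V s) := by
  rw [← m_comp, ← m_comp, ← m_add, biprod.total]
  rfl

theorem biprod_ext (V : X.Opens) {s t : Γs (A ⊞ B) V} (h1 : m biprod.fst V s = m biprod.fst V t)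
    (h2 : m biprod.snd V s = m biprod.snd V t) : s = t := by
  rw [biprod_sec V s, biprod_sec V t, h1, h2]

variable {I J} (hIJ : I ⊓ J = ⊥)

include hIJ in
theorem mv_shortExact : (mv I J).ShortExact := by
  apply Groth.Agent.Fga.Units.shortExact_of_sections
  · intro V
    change Function.Injective (m (biprod.lift (com I) (com J)) V)
    intro s t hst
    have h1 : m (com I) V s = m (com I) V t := by
      have := congrArg (m biprod.fst V) hst
      rw [← m_comp, ← m_comp, biprod.lift_fst] at this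
      exact this
    have h2 : m (com J) V s = m (com J) V t := by
      have := congrArg (m biprod.snd V) hst
      rw [← m_comp, ← m_comp, biprod.lift_snd] at this
      exact this
    apply un.injective
    apply Units.ext
    apply ext hIJ
    · rw [← toU_com, ← toU_com, h1]
    · rw [← toU_com, ← toU_com, h2]
  · intro V
    change ∀ s : Γs (US I.subschemeι ⊞ US J.subschemeι) V,
      m (biprod.desc (resI (le_sup_left : I ≤ I ⊔ J)) (-resI (le_sup_right : J ≤ I ⊔ J))) V s = 0 →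
      ∃ t, m (biprod.lift (com I) (com J)) V t = s
    intro s hs
    obtain ⟨s1, hs1⟩ : ∃ s1, m biprod.fst V s = s1 := ⟨_, rfl⟩
    obtain ⟨s2, hs2⟩ : ∃ s2, m biprod.snd V s = s2 := ⟨_, rfl⟩
    rw [biprod_sec V s, map_add, hs1, hs2] at hs
    have e1 : m (biprod.desc (resI (le_sup_left : I ≤ I ⊔ J)) (-resI (le_sup_right : J ≤ I ⊔ J))) V
        (m biprod.inl V s1) = m (resI (le_sup_left : I ≤ I ⊔ J)) V s1 := by
      rw [← m_comp, biprod.inl_desc]
    have e2 : m (biprod.desc (resI (le_sup_left : I ≤ I ⊔ J)) (-resI (le_sup_right : J ≤ I ⊔ J))) V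
        (m biprod.inr V s2) = -m (resI (le_sup_right : J ≤ I ⊔ J)) V s2 := by
      rw [← m_comp, biprod.inr_desc, m_neg]
    rw [e1, e2, add_neg_eq_zero] at hs
    have key : ∀ (a : (Γ(I.subscheme, I.subschemeι ⁻¹ᵁ V))ˣ) (b : (Γ(J.subscheme, J.subschemeι ⁻¹ᵁ V))ˣ),
      rr (le_sup_left : I ≤ I ⊔ J) V (a : Γ(I.subscheme, _)) =
        rr (le_sup_right : J ≤ I ⊔ J) V (b : Γ(J.subscheme, _)) →
      ∃ c : Γ(X, V), rI I V c = (a : Γ(I.subscheme, _)) ∧ rI J V c = (b : Γ(J.subscheme, _)) :=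
      fun a b hab => exists_glue hIJ V _ _ hab
    have h3 : rr (le_sup_left : I ≤ I ⊔ J) V (toU (f := I.subschemeι) s1 : Γ(I.subscheme, _)) =
        rr (le_sup_right : J ≤ I ⊔ J) V (toU (f := J.subschemeι) s2 : Γ(J.subscheme, _)) := by
      rw [← toU_resI, ← toU_resI, hs]
    have h4 : rr (le_sup_left : I ≤ I ⊔ J) V
        (((toU (f := I.subschemeι) s1)⁻¹ : (Γ(I.subscheme, _))ˣ) : Γ(I.subscheme, _)) =
        rr (le_sup_right : J ≤ I ⊔ J) V
          (((toU (f := J.subschemeι) s2)⁻¹ : (Γ(J.subscheme, _))ˣ) : Γ(J.subscheme, _)) := by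
      have h5 : Units.map (rr (le_sup_left : I ≤ I ⊔ J) V).toMonoidHom (toU (f := I.subschemeι) s1) =
          Units.map (rr (le_sup_right : J ≤ I ⊔ J) V).toMonoidHom (toU (f := J.subschemeι) s2) :=
        Units.ext h3
      have h6 := (map_inv (Units.map (rr (le_sup_left : I ≤ I ⊔ J) V).toMonoidHom)
        (toU (f := I.subschemeι) s1)).trans ((congrArg (fun t => t⁻¹) h5).trans
          (map_inv (Units.map (rr (le_sup_right : J ≤ I ⊔ J) V).toMonoidHom)
            (toU (f := J.subschemeι) s2)).symm)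
      exact congrArg Units.val h6
    obtain ⟨c, hc1, hc2⟩ := key _ _ h3
    obtain ⟨d, hd1, hd2⟩ := key _ _ h4
    have hcd : c * d = 1 := by
      apply ext hIJ
      · rw [map_mul, hc1, hd1, map_one]
        exact Units.mul_inv _
      · rw [map_mul, hc2, hd2, map_one]
        exact Units.mul_inv _
    refine ⟨un.symm ⟨c, d, hcd, by rw [mul_comm]; exact hcd⟩, ?_⟩
    apply biprod_ext
    · rw [← m_comp, biprod.lift_fst, hs1]
      apply (toU (f := I.subschemeι)).injective
      apply Units.ext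
      exact hc1
    · rw [← m_comp, biprod.lift_snd, hs2]
      apply (toU (f := J.subschemeι)).injective
      apply Units.ext
      exact hc2
  · intro V t x hx
    obtain ⟨U, hU, c, hxU, hc⟩ := exists_local_lift (I ⊔ J) V (toU (f := (I ⊔ J).subschemeι) t) x hx
    refine ⟨U, hU, m (biprod.inl ≫ 𝟙 (US I.subschemeι ⊞ US J.subschemeι)) U
      (m (com I) U (un.symm c)), hxU, ?_⟩
    change m (biprod.desc (resI (le_sup_left : I ≤ I ⊔ J)) (-resI (le_sup_right : J ≤ I ⊔ J))) U _ = _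
    rw [Category.comp_id, ← m_comp, biprod.inl_desc, ← m_comp, com_resI]
    apply (toU (f := (I ⊔ J).subschemeι)).injective
    apply Units.ext
    exact hc

/-! ### Consequences for Picard groups -/

theorem Hmap_add {A B : CohTop.Ab X.toTopCat} (φ ψ : A ⟶ B) (n : ℕ) (x : CohTop.H A n) :
    Sheaf.H.map (φ + ψ) n x = Sheaf.H.map φ n x + Sheaf.H.map ψ n x := by
  change ((Sheaf.functorH _ n).map (φ + ψ)).hom x = _
  rw [Functor.map_add]
  rfl

theorem Hmap_neg {A B : CohTop.Ab X.toTopCat} (φ : A ⟶ B) (n : ℕ) (x : CohTop.H A n) :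
    Sheaf.H.map (-φ) n x = -Sheaf.H.map φ n x := by
  change ((Sheaf.functorH _ n).map (-φ)).hom x = _
  rw [Functor.map_neg]
  rfl

theorem H_biprod (n : ℕ) (x : CohTop.H (A ⊞ B) n) :
    x = Sheaf.H.map biprod.inl n (Sheaf.H.map biprod.fst n x) +
      Sheaf.H.map biprod.inr n (Sheaf.H.map biprod.snd n x) := by
  rw [← Sheaf.H.map_comp_apply, ← Sheaf.H.map_comp_apply, ← Hmap_add, biprod.total,
    Sheaf.H.map_id_apply]

theorem H_lift_eq {F : CohTop.Ab X.toTopCat} {f : F ⟶ A} {g : F ⟶ B} {n : ℕ} {x : CohTop.H F n}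
    {y : CohTop.H A n} {z : CohTop.H B n}
    (h : Sheaf.H.map (biprod.lift f g) n x = Sheaf.H.map biprod.inl n y +
      Sheaf.H.map biprod.inr n z) : Sheaf.H.map f n x = y ∧ Sheaf.H.map g n x = z := by
  constructor
  · have h3 := congrArg (Sheaf.H.map (biprod.fst : A ⊞ B ⟶ A) n) h
    have e1 : Sheaf.H.map (biprod.fst : A ⊞ B ⟶ A) n (Sheaf.H.map (biprod.lift f g) n x) =
        Sheaf.H.map f n x := by rw [← Sheaf.H.map_comp_apply, biprod.lift_fst]
    have e2 : Sheaf.H.map (biprod.fst : A ⊞ B ⟶ A) n (Sheaf.H.map biprod.inl n y) = y := by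
      rw [← Sheaf.H.map_comp_apply, biprod.inl_fst, Sheaf.H.map_id_apply]
    have e3 : Sheaf.H.map (biprod.fst : A ⊞ B ⟶ A) n (Sheaf.H.map biprod.inr n z) = 0 := by
      rw [← Sheaf.H.map_comp_apply, biprod.inr_fst, Groth.Agent.CohqB.HLes.Hmap_zero]
    rw [map_add, e1, e2, e3, add_zero] at h3
    exact h3
  · have h3 := congrArg (Sheaf.H.map (biprod.snd : A ⊞ B ⟶ B) n) h
    have e1 : Sheaf.H.map (biprod.snd : A ⊞ B ⟶ B) n (Sheaf.H.map (biprod.lift f g) n x) =
        Sheaf.H.map g n x := by rw [← Sheaf.H.map_comp_apply, biprod.lift_snd]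
    have e2 : Sheaf.H.map (biprod.snd : A ⊞ B ⟶ B) n (Sheaf.H.map biprod.inl n y) = 0 := by
      rw [← Sheaf.H.map_comp_apply, biprod.inl_snd, Groth.Agent.CohqB.HLes.Hmap_zero]
    have e3 : Sheaf.H.map (biprod.snd : A ⊞ B ⟶ B) n (Sheaf.H.map biprod.inr n z) = z := by
      rw [← Sheaf.H.map_comp_apply, biprod.inr_snd, Sheaf.H.map_id_apply]
    rw [map_add, e1, e2, e3, zero_add] at h3
    exact h3

/-- `Pic Y → H¹(X, i_* O_Y^×)` -/
noncomputable abbrev pe (I : X.IdealSheafData) :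
    Additive (Pic I.subscheme) ≃+ CohTop.H (US I.subschemeι) 1 :=
  picEquivZ I.subschemeι (good_of_isClosedImmersion I.subschemeι)

theorem map_resI_pe {I J : X.IdealSheafData} (h : I ≤ J) (c : Pic I.subscheme) :
    Sheaf.H.map (resI h) 1 (pe I (Additive.ofMul c)) =
      pe J (Additive.ofMul (pull (Scheme.IdealSheafData.inclusion h) c)) :=
  map_resMap_pic' _ _ _ _ _ _ c

theorem map_com_pe (I : X.IdealSheafData) (c : Pic X) :
    Sheaf.H.map (com I) 1 (picEquivUnits X (Additive.ofMul c)) =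
      pe I (Additive.ofMul (pull I.subschemeι c)) :=
  map_comap_pic I.subschemeι (good_of_isClosedImmersion I.subschemeι) c

include hIJ in
/-- Glueing: classes on `Y` and `Z` with the same restriction to `W` come from `X`. -/
theorem exists_pic_glue (y : Pic I.subscheme) (z : Pic J.subscheme)
    (h : pull (Scheme.IdealSheafData.inclusion (le_sup_left : I ≤ I ⊔ J)) y =
      pull (Scheme.IdealSheafData.inclusion (le_sup_right : J ≤ I ⊔ J)) z) :
    ∃ c : Pic X, pull I.subschemeι c = y ∧ pull J.subschemeι c = z := by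
  have h1 : Sheaf.H.map (resI (le_sup_left : I ≤ I ⊔ J)) 1 (pe I (Additive.ofMul y)) =
      Sheaf.H.map (resI (le_sup_right : J ≤ I ⊔ J)) 1 (pe J (Additive.ofMul z)) := by
    rw [map_resI_pe, map_resI_pe, h]
  have h2 : Sheaf.H.map (biprod.desc (resI (le_sup_left : I ≤ I ⊔ J))
      (-resI (le_sup_right : J ≤ I ⊔ J))) 1
      (Sheaf.H.map biprod.inl 1 (pe I (Additive.ofMul y)) +
        Sheaf.H.map biprod.inr 1 (pe J (Additive.ofMul z))) = 0 := by
    rw [map_add, ← Sheaf.H.map_comp_apply, ← Sheaf.H.map_comp_apply, biprod.inl_desc,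
      biprod.inr_desc, Hmap_neg, h1, add_neg_cancel]
  obtain ⟨x, hx⟩ := Groth.Agent.CohqB.HLes.exact₂ (mv_shortExact hIJ) 1 _ h2
  obtain ⟨c, rfl⟩ := (picEquivUnits X).surjective x
  have hx' : Sheaf.H.map (biprod.lift (com I) (com J)) 1 (picEquivUnits X c) =
    Sheaf.H.map biprod.inl 1 (pe I (Additive.ofMul y)) +
        Sheaf.H.map biprod.inr 1 (pe J (Additive.ofMul z)) := hx
  refine ⟨Additive.toMul c, ?_, ?_⟩
  · exact Additive.ofMul.injective ((pe I).injective
      ((map_com_pe I (Additive.toMul c)).symm.trans (H_lift_eq hx').1))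
  · exact Additive.ofMul.injective ((pe J).injective
      ((map_com_pe J (Additive.toMul c)).symm.trans (H_lift_eq hx').2))

include hIJ in
/-- If units on `W` extend to `Y`, a class on `X` trivial on `Y` and on `Z` is trivial. -/
theorem pic_eq_one (hu : Function.Surjective (um (Scheme.IdealSheafData.inclusion
    (le_sup_left : I ≤ I ⊔ J)))) (c : Pic X) (h1 : pull I.subschemeι c = 1)
    (h2 : pull J.subschemeι c = 1) : c = 1 := by
  have h3 : Sheaf.H.map (com I) 1 (picEquivUnits X (Additive.ofMul c)) = 0 := by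
    rw [map_com_pe, h1]
    exact map_zero (pe I)
  have h4 : Sheaf.H.map (com J) 1 (picEquivUnits X (Additive.ofMul c)) = 0 := by
    rw [map_com_pe, h2]
    exact map_zero (pe J)
  have h5 : Sheaf.H.map (biprod.lift (com I) (com J)) 1 (picEquivUnits X (Additive.ofMul c)) = 0 := by
    rw [H_biprod 1 (Sheaf.H.map (biprod.lift (com I) (com J)) 1 _), ← Sheaf.H.map_comp_apply
      (biprod.lift (com I) (com J)), ← Sheaf.H.map_comp_apply (biprod.lift (com I) (com J)),
      biprod.lift_fst, biprod.lift_snd, h3, h4, map_zero, map_zero, add_zero]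
  obtain ⟨w, hw⟩ := Groth.Agent.CohqB.HLes.exact₁ (mv_shortExact hIJ) 0 _ h5
  have h6 : ∃ v : CohTop.H (US I.subschemeι) 0,
      Sheaf.H.map (resI (le_sup_left : I ≤ I ⊔ J)) 0 v = w := by
    obtain ⟨t, ht⟩ := hu (Additive.toMul (h0 (I ⊔ J).subschemeι w))
    refine ⟨(h0 I.subschemeι).symm (Additive.ofMul t), ?_⟩
    apply (h0 (I ⊔ J).subschemeι).injective
    have e1 : Sheaf.H.equiv₀ (US (I ⊔ J).subschemeι) (hTop X)
        (Sheaf.H.map (resI (le_sup_left : I ≤ I ⊔ J)) 0
          ((h0 I.subschemeι).symm (Additive.ofMul t))) =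
        (resI (le_sup_left : I ≤ I ⊔ J)).hom.app (op ⊤) (Sheaf.H.equiv₀ (US I.subschemeι) (hTop X)
          ((h0 I.subschemeι).symm (Additive.ofMul t))) :=
      (Sheaf.H.equiv₀_naturality _ _ _).symm
    have e2 : Sheaf.H.equiv₀ (US I.subschemeι) (hTop X)
          ((h0 I.subschemeι).symm (Additive.ofMul t)) = Additive.ofMul t :=
      (h0 I.subschemeι).apply_symm_apply _
    rw [e2] at e1
    refine Eq.trans e1 ?_
    apply (toU (f := (I ⊔ J).subschemeι)).injective
    apply Units.ext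
    refine (toU_resI (le_sup_left : I ≤ I ⊔ J) (V := ⊤) _).trans ?_
    refine Eq.trans ?_ (congrArg Units.val ht)
    unfold rr
    have e3 := Scheme.Hom.appLE_eq_app (Scheme.IdealSheafData.inclusion (le_sup_left : I ≤ I ⊔ J))
      (U := ⊤)
    exact congr($e3 (t : Γ(I.subscheme, ⊤)))
  obtain ⟨v, hv⟩ := h6
  have h7 : Sheaf.H.map (biprod.desc (resI (le_sup_left : I ≤ I ⊔ J))
      (-resI (le_sup_right : J ≤ I ⊔ J))) 0 (Sheaf.H.map biprod.inl 0 v) = w := by
    rw [← Sheaf.H.map_comp_apply, biprod.inl_desc, hv]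
  have h8 : Groth.Agent.CohqB.HLes.δ (mv_shortExact hIJ) 0 w = 0 :=
    (congrArg (Groth.Agent.CohqB.HLes.δ (mv_shortExact hIJ) 0) h7).symm.trans
      (Groth.Agent.CohqB.HLes.δ_map_g (mv_shortExact hIJ) 0 _)
  have h9 : picEquivUnits X (Additive.ofMul c) = 0 := hw.symm.trans h8
  have h10 : Additive.ofMul c = 0 := (EmbeddingLike.map_eq_zero_iff (f := picEquivUnits X)).mp h9
  exact congrArg Additive.toMul h10

end K858.MVSeq
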