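import Groth.Agent.PicGrp.K858.Thick

/-!
# `ker (Pic X → Pic X₀) ≃ H¹(X, J)` for a square-zero ideal with `Γ(X) → Γ(X₀)` surjective
-/

set_option autoImplicit false
universe u

open CategoryTheory CategoryTheory.Limits AlgebraicGeometry Opposite TopologicalSpace

namespace K858.ThickSurj

open K858.Thick K858.Basic

variable {X : Scheme.{u}} (I : X.IdealSheafData) (hI : I ^ 2 = ⊥)

include hI in
theorem um_surjective (hs : Function.Surjective I.subschemeι.appTop.hom) :
    Function.Surjective (um I.subschemeι) := by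
  intro u
  obtain ⟨a, ha⟩ := hs u
  obtain ⟨b, hb⟩ := hs (u⁻¹ : (Γ(I.subscheme, ⊤))ˣ)
  have h1 : I.subschemeι.app ⊤ (a * b - 1) = 0 := by
    have ha' : I.subschemeι.app ⊤ a = (u : Γ(I.subscheme, ⊤)) := ha
    have hb' : I.subschemeι.app ⊤ b = ((u⁻¹ : (Γ(I.subscheme, ⊤))ˣ) : Γ(I.subscheme, ⊤)) := hb
    rw [map_sub, map_mul, map_one]
    refine (congrArg₂ (fun s t => s * t - 1) ha' hb').trans ?_
    rw [sub_eq_zero]
    exact u.mul_inv
  have h2 := Groth.Agent.Fga.SqZero.mul_eq_zero I hI _ _ h1 h1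
  have h3 : a * (b * (2 - a * b)) = 1 := by linear_combination -h2
  exact ⟨⟨a, b * (2 - a * b), h3, by rw [mul_comm]; exact h3⟩, Units.ext ha⟩

include hI in
theorem main [PicGrp.Law X] [PicGrp.Law I.subscheme] (hi : PicGrp.PullMul I.subschemeι)
    (hs : Function.Surjective I.subschemeι.appTop.hom) :
    Nonempty ((PicGrp.pullHom I.subschemeι hi).ker ≃*
      Multiplicative (Coh.HH X (ClSub.idealMod I) 1)) := by
  obtain ⟨ε, δ₀, α, δ₁, -, -, h3, h4, h5, -⟩ := seven' I hI hi
  have h6 : (um I.subschemeι).range = ⊤ :=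
    MonoidHom.range_eq_top_of_surjective _ (um_surjective I hI hs)
  rw [h6, MonoidHom.ker_eq_top_iff] at h3
  subst h3
  have h7 : Function.Injective α := by
    rw [← MonoidHom.ker_eq_bot_iff, h4]
    exact MonoidHom.range_one
  rw [h5]
  exact ⟨(MonoidHom.ofInjective h7).symm⟩

end K858.ThickSurj
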