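import Groth.Prelude.Def_UnitsSh
import Groth.Agent.CurvesA.TorsorCls
import Groth.Agent.Grpsch.PicGrp
import Groth.Agent.VarietyA.Glue2

/-!
# Invertible modules and `H¹(Y, f_* O_X^×)` (Zariski topology)

For `f : X ⟶ Y`, `US f = f_* O_X^×` on `Y`.  For a module `L` on `X` which is, locally on `Y`, trivial
(`LocTriv f L`), `clsZ f L : H¹(Y, f_* O_X^×)` is the class of the torsor of local generators.
* `clsZ_congr`, `clsZ_tens`, `nonempty_iso_of_clsZ_eq_zero`, `exists_clsZ_eq` (surjectivity);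
* `resMap a i : US i ⟶ US (a ≫ i)` and `map_resMap : H¹(resMap a i) (clsZ i L) = clsZ (a ≫ i) (a^* L)`.
-/

set_option autoImplicit false
universe u

open CategoryTheory CategoryTheory.Limits AlgebraicGeometry Opposite TopologicalSpace

namespace K858.UnitsCls

open Groth.Agent.Fdesc.LocGen Groth.Agent.CurvesA.TorsorCls Groth.Agent.CurvesA.TorsorOps
open Groth.Agent.CurvesA.Torsor (DiffMap supp)
open Groth.Agent.CurvesA.Hilbert90 (IsTorsor)

variable {X Y Z : Scheme.{u}}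

/-- `f_* O_X^×` as an abelian sheaf on `Y`. -/
noncomputable abbrev US (f : X ⟶ Y) : CohTop.Ab Y.toTopCat :=
  (CohTop.push f.base).obj (UnitsSh.unitsAb X)

/-- `Y` is terminal in its opens. -/
noncomputable abbrev hTop (Y : Scheme.{u}) : IsTerminal (⊤ : Y.Opens) :=
  IsTerminal.ofUniqueHom (fun _ => homOfLE le_top) (fun _ _ => Subsingleton.elim _ _)

/-- a section of `f_* O_X^×` over `V` as a unit on `f⁻¹ V` -/
noncomputable def toU {f : X ⟶ Y} {V : Y.Opens} : (US f).obj.obj (op V) ≃ (Γ(X, f ⁻¹ᵁ V))ˣ :=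
  Additive.toMul

theorem toU_add {f : X ⟶ Y} {V : Y.Opens} (s t : (US f).obj.obj (op V)) :
    toU (s + t) = toU s * toU t := rfl

theorem toU_zero {f : X ⟶ Y} {V : Y.Opens} : toU (0 : (US f).obj.obj (op V)) = 1 := rfl

theorem toU_neg {f : X ⟶ Y} {V : Y.Opens} (s : (US f).obj.obj (op V)) :
    toU (-s) = (toU s)⁻¹ := rfl

theorem toU_sub {f : X ⟶ Y} {V : Y.Opens} (s t : (US f).obj.obj (op V)) :
    toU (s - t) = toU s * (toU t)⁻¹ := by
  rw [sub_eq_add_neg, toU_add, toU_neg]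

theorem toU_map {f : X ⟶ Y} {V W : Y.Opens} (h : W ≤ V) (s : (US f).obj.obj (op V)) :
    ((toU ((US f).obj.map (homOfLE h).op s) : (Γ(X, f ⁻¹ᵁ W))ˣ) : Γ(X, f ⁻¹ᵁ W)) =
      ores (f.preimage_mono h) (toU s : Γ(X, f ⁻¹ᵁ V)) := rfl

/-- The presheaf of local generators of `L` over opens of `Y`. -/
noncomputable def P (f : X ⟶ Y) (L : X.Modules) : Y.Opensᵒᵖ ⥤ Type u where
  obj V := {e : Γ(L, f ⁻¹ᵁ V.unop) // IsGen e}
  map {V W} h := ↾fun e => ⟨res L (f.preimage_mono h.unop.le) e.1, e.2.res _⟩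
  map_id V := by
    ext e
    exact res_refl L e.1
  map_comp {V W T} g h := by
    ext e
    exact (res_res L _ _ e.1).symm

theorem P_map_val (f : X ⟶ Y) (L : X.Modules) {V W : Y.Opensᵒᵖ} (h : V ⟶ W)
    (e : (P f L).obj V) : ((P f L).map h e).1 = res L (f.preimage_mono h.unop.le) e.1 := rfl

/-- the ratio of two generators -/
noncomputable def ratio {L : X.Modules} {U : X.Opens} {e e' : Γ(L, U)} (he : IsGen e)
    (he' : IsGen e') : (Γ(X, U))ˣ :=
  (he'.exists_unit he).choose_spec.1.unit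

theorem ratio_spec {L : X.Modules} {U : X.Opens} {e e' : Γ(L, U)} (he : IsGen e)
    (he' : IsGen e') : e = (ratio he he' : Γ(X, U)) • e' :=
  (he'.exists_unit he).choose_spec.2

theorem ratio_unique {L : X.Modules} {U : X.Opens} {e e' : Γ(L, U)} (he : IsGen e)
    (he' : IsGen e') {a : (Γ(X, U))ˣ} (h : e = (a : Γ(X, U)) • e') : ratio he he' = a :=
  Units.ext (he'.ext ((ratio_spec he he').symm.trans h))

/-- The torsor datum of local generators. -/
noncomputable def D (f : X ⟶ Y) (L : X.Modules) : DiffMap (US f).obj (P f L) where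
  d V p q := toU.symm (ratio p.2 q.2)
  d_add V p q r := by
    apply toU.injective
    rw [toU_add, Equiv.apply_symm_apply, Equiv.apply_symm_apply, Equiv.apply_symm_apply]
    symm
    apply ratio_unique
    rw [Units.val_mul, mul_smul, ← ratio_spec, ← ratio_spec]
  d_map {V W} h p q := by
    apply toU.injective
    rw [Equiv.apply_symm_apply]
    symm
    apply ratio_unique
    have h1 := congrArg (res L (f.preimage_mono h.unop.le)) (ratio_spec p.2 q.2)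
    rw [res_smul] at h1
    exact h1

theorem D_spec (f : X ⟶ Y) (L : X.Modules) {V : Y.Opensᵒᵖ} (p q : (P f L).obj V) :
    p.1 = (toU ((D f L).d V p q) : Γ(X, f ⁻¹ᵁ V.unop)) • q.1 :=
  ratio_spec p.2 q.2

theorem D_unique (f : X ⟶ Y) (L : X.Modules) {V : Y.Opensᵒᵖ} (p q : (P f L).obj V)
    {a : (US f).obj.obj V} (h : p.1 = (toU (V := V.unop) a : Γ(X, f ⁻¹ᵁ V.unop)) • q.1) :
    (D f L).d V p q = a :=
  toU.injective (ratio_unique p.2 q.2 h)

/-- `L` is trivial locally on `Y`. -/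
def LocTriv (f : X ⟶ Y) (L : X.Modules) : Prop :=
  ∀ y : Y, ∃ (V : Y.Opens) (e : Γ(L, f ⁻¹ᵁ V)), y ∈ V ∧ IsGen e

theorem LocTriv.supp_mem {f : X ⟶ Y} {L : X.Modules} (h : LocTriv f L) (V : Y.Opens) :
    supp (P f L) V ∈ Opens.grothendieckTopology Y V := by
  intro y hy
  obtain ⟨W, e, hyW, he⟩ := h y
  exact ⟨V ⊓ W, homOfLE inf_le_left, ⟨⟨res L (f.preimage_mono inf_le_right) e, he.res _⟩⟩,
    hy, hyW⟩

theorem LocTriv.congr {f : X ⟶ Y} {L M : X.Modules} (h : LocTriv f L) (e : L ≅ M) :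
    LocTriv f M := by
  intro y
  obtain ⟨W, s, hyW, hs⟩ := h y
  exact ⟨W, e.hom.app _ s, hyW, hs.app e.hom⟩

theorem LocTriv.tens {f : X ⟶ Y} {L M : X.Modules} (h : LocTriv f L) (h' : LocTriv f M) :
    LocTriv f (CohB1.tensorMod L M) := by
  intro y
  obtain ⟨W, s, hyW, hs⟩ := h y
  obtain ⟨W', s', hyW', hs'⟩ := h' y
  exact ⟨W ⊓ W', tmul (res L (f.preimage_mono inf_le_left) s)
    (res M (f.preimage_mono inf_le_right) s'), ⟨hyW, hyW'⟩, (hs.res _).tmul (hs'.res _)⟩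

theorem LocTriv.pull {a : X ⟶ Y} {i : Y ⟶ Z} {L : Y.Modules} (h : LocTriv i L) :
    LocTriv (a ≫ i) ((Scheme.Modules.pullback a).obj L) := by
  intro z
  obtain ⟨W, s, hzW, hs⟩ := h z
  exact ⟨W, pullSec a s, hzW, hs.pullSec a⟩

theorem LocTriv.isInvertible {f : X ⟶ Y} {L : X.Modules} (h : LocTriv f L) :
    PicF.IsInvertible L := by
  rw [isInvertible_iff]
  intro x
  obtain ⟨W, s, hzW, hs⟩ := h (f x)
  exact ⟨f ⁻¹ᵁ W, s, hzW, hs⟩

theorem locTriv_id {L : X.Modules} (h : PicF.IsInvertible L) : LocTriv (𝟙 X) L := by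
  intro x
  obtain ⟨W, s, hzW, hs⟩ := (isInvertible_iff L).mp h x
  exact ⟨W, s, hzW, hs⟩

/-- The class of `L` in `H¹(Y, f_* O_X^×)`. -/
noncomputable def clsZ (f : X ⟶ Y) (L : X.Modules) (hL : LocTriv f L) : CohTop.H (US f) 1 :=
  clsOf (hTop Y) (US f) (D f L) (hL.supp_mem ⊤)

theorem clsZ_congr {f : X ⟶ Y} {L M : X.Modules} (hL : LocTriv f L) (hM : LocTriv f M)
    (e : L ≅ M) : clsZ f L hL = clsZ f M hM := by
  refine clsOf_congr (hTop Y) (D f M) (D f L) (fun V p => ⟨e.hom.app _ p.1, p.2.app e.hom⟩)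
    ?_ ?_ _ _
  · intro V W h p
    exact Subtype.ext (app_res e.hom _ _)
  · intro V p q
    symm
    apply D_unique
    have h1 := congrArg (e.hom.app _) (D_spec f L p q)
    rw [Scheme.Modules.Hom.app_smul] at h1
    exact h1

theorem clsZ_tens {f : X ⟶ Y} {L M : X.Modules} (hL : LocTriv f L) (hM : LocTriv f M) :
    clsZ f (CohB1.tensorMod L M) (hL.tens hM) = clsZ f L hL + clsZ f M hM := by
  refine Eq.trans (Eq.symm ?_) (clsOf_prodD (hTop Y) (D f L) (D f M) (hL.supp_mem ⊤)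
    (hM.supp_mem ⊤))
  refine clsOf_congr (hTop Y) (D f (CohB1.tensorMod L M)) (prodD (D f L) (D f M))
    (fun V p => ⟨tmul p.1.1 p.2.1, p.1.2.tmul p.2.2⟩) ?_ ?_ _ _
  · intro V W h p
    exact Subtype.ext (res_tmul _ _ _).symm
  · intro V p q
    symm
    apply D_unique
    change tmul p.1.1 p.2.1 = ((toU ((D f L).d V p.1 q.1) : Γ(X, f ⁻¹ᵁ V.unop)) *
      (toU ((D f M).d V p.2 q.2) : Γ(X, f ⁻¹ᵁ V.unop))) • tmul q.1.1 q.2.1
    conv_lhs => rw [D_spec f L p.1 q.1, D_spec f M p.2 q.2]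
    rw [smul_tmul, tmul_smul, smul_smul]

/-- If the torsor of generators is trivial, then so is the invertible module. -/
theorem nonempty_iso_of_clsZ_eq_zero {f : X ⟶ Y} {L : X.Modules} (hL : LocTriv f L)
    (h0 : clsZ f L hL = 0) : Nonempty (L ≅ Coh.structureModule X) := by
  obtain ⟨h, hnat, hd⟩ := (clsOf_eq_zero_iff (hTop Y) (D f L) (hL.supp_mem ⊤)).mp h0
  clear h0
  choose V e hy he using hL
  let p : ∀ y : Y, (P f L).obj (op (V y)) := fun y => ⟨e y, he y⟩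
  let a : ∀ y : Y, (Γ(X, f ⁻¹ᵁ V y))ˣ := fun y => (toU (h _ (p y)))⁻¹
  have hcov : (⊤ : X.Opens) ≤ ⨆ y, f ⁻¹ᵁ V y := fun x _ => Opens.mem_iSup.mpr ⟨f x, hy _⟩
  obtain ⟨t, ht⟩ := res_glue L (V := ⊤) (fun y => f ⁻¹ᵁ V y) (fun y => le_top) hcov
    (fun y => (a y : Γ(X, f ⁻¹ᵁ V y)) • e y) (by
    intro y z
    let iy : op (V y) ⟶ op (V y ⊓ V z) := (homOfLE inf_le_left).op
    let iz : op (V z) ⟶ op (V y ⊓ V z) := (homOfLE inf_le_right).op
    have h1 := D_spec f L ((P f L).map iy (p y)) ((P f L).map iz (p z))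
    rw [← hd, hnat, hnat, toU_sub] at h1
    have ey := toU_map (f := f) (inf_le_left : V y ⊓ V z ≤ V y) (h _ (p y))
    have ez := toU_map (f := f) (inf_le_right : V y ⊓ V z ≤ V z) (h _ (p z))
    have ay : ores (f.preimage_mono (inf_le_left : V y ⊓ V z ≤ V y)) (a y : Γ(X, f ⁻¹ᵁ V y)) =
      (((toU ((US f).obj.map iy (h _ (p y))))⁻¹ : (Γ(X, f ⁻¹ᵁ (V y ⊓ V z)))ˣ) :
        Γ(X, f ⁻¹ᵁ (V y ⊓ V z))) := by
      change ((Units.map (ores (f.preimage_mono (inf_le_left : V y ⊓ V z ≤ V y))).toMonoidHom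
        (toU (h _ (p y)))⁻¹ : (Γ(X, f ⁻¹ᵁ (V y ⊓ V z)))ˣ) : Γ(X, f ⁻¹ᵁ (V y ⊓ V z))) = _
      rw [map_inv]
      rfl
    have az : ores (f.preimage_mono (inf_le_right : V y ⊓ V z ≤ V z)) (a z : Γ(X, f ⁻¹ᵁ V z)) =
      (((toU ((US f).obj.map iz (h _ (p z))))⁻¹ : (Γ(X, f ⁻¹ᵁ (V y ⊓ V z)))ˣ) :
        Γ(X, f ⁻¹ᵁ (V y ⊓ V z))) := by
      change ((Units.map (ores (f.preimage_mono (inf_le_right : V y ⊓ V z ≤ V z))).toMonoidHom
        (toU (h _ (p z)))⁻¹ : (Γ(X, f ⁻¹ᵁ (V y ⊓ V z)))ˣ) : Γ(X, f ⁻¹ᵁ (V y ⊓ V z))) = _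
      rw [map_inv]
      rfl
    change res L (f.preimage_mono (inf_le_left : V y ⊓ V z ≤ V y))
      ((a y : Γ(X, f ⁻¹ᵁ V y)) • e y) =
      res L (f.preimage_mono (inf_le_right : V y ⊓ V z ≤ V z)) ((a z : Γ(X, f ⁻¹ᵁ V z)) • e z)
    rw [res_smul, res_smul, ay, az]
    have h2 : res L (f.preimage_mono (inf_le_left : V y ⊓ V z ≤ V y)) (e y) =
      ((toU ((US f).obj.map iy (h _ (p y))) * (toU ((US f).obj.map iz (h _ (p z))))⁻¹ :
        (Γ(X, f ⁻¹ᵁ (V y ⊓ V z)))ˣ) : Γ(X, f ⁻¹ᵁ (V y ⊓ V z))) •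
        res L (f.preimage_mono (inf_le_right : V y ⊓ V z ≤ V z)) (e z) := h1
    refine (congrArg (fun t => (((toU ((US f).obj.map iy (h _ (p y))))⁻¹ :
      (Γ(X, f ⁻¹ᵁ (V y ⊓ V z)))ˣ) : Γ(X, f ⁻¹ᵁ (V y ⊓ V z))) • t) h2).trans ?_
    refine (smul_smul _ _ _).trans ?_
    rw [← Units.val_mul, inv_mul_cancel_left])
  have hgen : IsGen t := by
    refine IsGen.of_cover (fun y => f ⁻¹ᵁ V y) (fun y => le_top) hcov fun y => ?_
    rw [ht]
    exact (he y).unit_smul (a y).isUnit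
  have : IsIso (homOf t) := by
    rw [isIso_iff_isGen, sec_homOf]
    simpa using hgen
  exact ⟨(asIso (homOf t)).symm⟩

/-- The presheaf of containments in the members of a family of opens. -/
noncomputable def fac (V : Y → Y.Opens) : Y.Opensᵒᵖ ⥤ Type u where
  obj W := {y : Y // W.unop ≤ V y}
  map {W W'} h := ↾fun p => ⟨p.1, h.unop.le.trans p.2⟩
  map_id W := by
    ext p
    rfl
  map_comp {W W' W''} g h := by
    ext p
    rfl

theorem supp_fac (V : Y → Y.Opens) (hV : ∀ y, y ∈ V y) (T : Y.Opens) :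
    supp (fac V) T ∈ Opens.grothendieckTopology Y T := by
  intro y hy
  exact ⟨T ⊓ V y, homOfLE inf_le_left, ⟨⟨y, inf_le_right⟩⟩, hy, hV y⟩

/-- Every class in `H¹(Y, f_* O_X^×)` is the class of an invertible module. -/
theorem exists_clsZ_eq (f : X ⟶ Y) (x : CohTop.H (US f) 1) :
    ∃ (L : X.Modules) (hL : LocTriv f L), clsZ f L hL = x := by
  obtain ⟨P', D', hP', hT', hsupp, rfl⟩ := exists_clsOf_eq (hTop Y) x
  have h1 : ∀ y : Y, ∃ V : Y.Opens, y ∈ V ∧ Nonempty (P'.obj (op V)) := by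
    intro y
    obtain ⟨V, h, ⟨s⟩, hV⟩ := hP' y trivial
    exact ⟨V, hV, ⟨s⟩⟩
  choose V hyV hV using h1
  let p : ∀ y, P'.obj (op (V y)) := fun y => (hV y).some
  have hcov : (⊤ : X.Opens) ≤ ⨆ y, f ⁻¹ᵁ V y := fun x _ => Opens.mem_iSup.mpr ⟨f x, hyV _⟩
  let pr : ∀ {U W : Y.Opens} (_ : W ≤ U), P'.obj (op U) → P'.obj (op W) := fun h s =>
    P'.map (homOfLE h).op s
  have pr_pr : ∀ {U W T : Y.Opens} (h : W ≤ U) (h' : T ≤ W) (s : P'.obj (op U)),
      pr h' (pr h s) = pr (h'.trans h) s := by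
    intro U W T h h' s
    change P'.map (homOfLE h').op (P'.map (homOfLE h).op s) = _
    rw [← ConcreteCategory.comp_apply, ← P'.map_comp]
    rfl
  let rat : ∀ {U : Y.Opens}, P'.obj (op U) → P'.obj (op U) → (Γ(X, f ⁻¹ᵁ U))ˣ := fun s t =>
    toU (D'.d _ s t)
  have rat_self : ∀ {U : Y.Opens} (s : P'.obj (op U)), rat s s = 1 := by
    intro U s
    change toU (D'.d _ s s) = 1
    rw [D'.d_self]
    rfl
  have rat_mul : ∀ {U : Y.Opens} (s t r : P'.obj (op U)), rat s t * rat t r = rat s r := by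
    intro U s t r
    change toU (D'.d _ s t) * toU (D'.d _ t r) = _
    rw [← toU_add, D'.d_add]
  have ores_rat : ∀ {U W : Y.Opens} (h : W ≤ U) (s t : P'.obj (op U)),
      ores (f.preimage_mono h) (rat s t : Γ(X, f ⁻¹ᵁ U)) =
        (rat (pr h s) (pr h t) : Γ(X, f ⁻¹ᵁ W)) := by
    intro U W h s t
    refine (toU_map h (D'.d _ s t)).symm.trans ?_
    rw [D'.d_map]
  obtain ⟨L, e, hL, he, heq⟩ := Groth.Agent.VarietyA.Glue2.exists_glued (fun y => f ⁻¹ᵁ V y)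
    (top_le_iff.mp hcov)
    (fun i j => (rat (pr inf_le_left (p i)) (pr inf_le_right (p j)) :
      Γ(X, f ⁻¹ᵁ (V i ⊓ V j))))
    (fun i => by
      rw [show (pr (inf_le_left : V i ⊓ V i ≤ V i) (p i)) = pr inf_le_right (p i) from rfl,
        rat_self]
      rfl) (by
      intro i j l
      have e1 := ores_rat (inf_le_inf_left _ inf_le_left : V i ⊓ (V j ⊓ V l) ≤ V i ⊓ V j) (pr inf_le_left (p i))
        (pr inf_le_right (p j))
      have e2 := ores_rat (inf_le_right : V i ⊓ (V j ⊓ V l) ≤ V j ⊓ V l) (pr inf_le_left (p j)) (pr inf_le_right (p l))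
      have e3 := ores_rat (inf_le_inf_left _ inf_le_right : V i ⊓ (V j ⊓ V l) ≤ V i ⊓ V l) (pr inf_le_left (p i)) (pr inf_le_right (p l))
      refine (congrArg₂ (· * ·) e1 e2).trans (Eq.trans ?_ e3.symm)
      rw [pr_pr, pr_pr, pr_pr, pr_pr, pr_pr, pr_pr]
      exact congrArg Units.val (rat_mul _ _ _))
  have he : ∀ y, IsGen (e y) := he
  have hLT : LocTriv f L := fun y => ⟨V y, e y, hyV y, he y⟩
  refine ⟨L, hLT, ?_⟩
  have hfac := supp_fac V hyV ⊤
  let α₁ : ∀ W : Y.Opensᵒᵖ, (fac V).obj W → P'.obj W := fun W s => P'.map (homOfLE s.2).op (p s.1)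
  have hα₁ : ∀ {W W' : Y.Opensᵒᵖ} (h : W ⟶ W') (s : (fac V).obj W),
      α₁ W' ((fac V).map h s) = P'.map h (α₁ W s) := by
    intro W W' h s
    exact (pr_pr s.2 h.unop.le (p s.1)).symm
  let α₂ : ∀ W : Y.Opensᵒᵖ, (fac V).obj W → (P f L).obj W := fun W s =>
    ⟨res L (f.preimage_mono s.2) (e s.1), (he s.1).res _⟩
  have hα₂ : ∀ {W W' : Y.Opensᵒᵖ} (h : W ⟶ W') (s : (fac V).obj W),
      α₂ W' ((fac V).map h s) = (P f L).map h (α₂ W s) := by
    intro W W' h s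
    exact Subtype.ext (res_res L _ _ _).symm
  have e1 := clsOf_congr (hTop Y) (F := US f) D' (comapD D' α₁ hα₁) α₁
    hα₁ (fun _ _ _ => rfl) hP' hfac
  have e2 := clsOf_congr (hTop Y) (F := US f) (D f L) (comapD D' α₁ hα₁) α₂
    hα₂ (fun W s t => by
      symm
      apply D_unique
      change res L (f.preimage_mono s.2) (e s.1) = (rat (pr s.2 (p s.1)) (pr t.2 (p t.1)) :
        Γ(X, f ⁻¹ᵁ W.unop)) • res L (f.preimage_mono t.2) (e t.1)
      have h3 := congrArg (res L (f.preimage_mono (le_inf s.2 t.2))) (heq s.1 t.1)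
      have e4 := ores_rat (le_inf s.2 t.2) (pr (inf_le_left : V s.1 ⊓ V t.1 ≤ V s.1) (p s.1))
        (pr inf_le_right (p t.1))
      rw [pr_pr, pr_pr] at e4
      rw [← e4]
      exact (res_res L _ _ _).symm.trans (h3.trans ((res_smul L _ _ _).trans
        (congrArg (fun m => _ • m) (res_res L _ _ _))))) (hLT.supp_mem ⊤) hfac
  exact e2.symm.trans e1

/-! ### Functoriality -/

/-- `i_* O_Y^× ⟶ (a ≫ i)_* O_X^×`. -/
noncomputable def resMap (a : X ⟶ Y) (i : Y ⟶ Z) : US i ⟶ US (a ≫ i) :=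
  (CohTop.push i.base).map (UnitsSh.comap a)

theorem toU_resMap (a : X ⟶ Y) (i : Y ⟶ Z) {V : Z.Opens} (s : (US i).obj.obj (op V)) :
    ((toU ((resMap a i).hom.app (op V) s) : (Γ(X, (a ≫ i) ⁻¹ᵁ V))ˣ) : Γ(X, (a ≫ i) ⁻¹ᵁ V)) =
      a.app (i ⁻¹ᵁ V) (toU s : Γ(Y, i ⁻¹ᵁ V)) := rfl

theorem map_resMap (a : X ⟶ Y) (i : Y ⟶ Z) {L : Y.Modules} (hL : LocTriv i L) :
    Sheaf.H.map (resMap a i) 1 (clsZ i L hL) =
      clsZ (a ≫ i) ((Scheme.Modules.pullback a).obj L) hL.pull := by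
  refine (map_clsOf (hTop Z) (resMap a i) (D i L) (hL.supp_mem ⊤)).trans ?_
  refine clsOf_congr (hTop Z) (D (a ≫ i) _) (pushD (resMap a i).hom (D i L))
    (fun V p => ⟨pullSec a p.1, p.2.pullSec a⟩) ?_ ?_ _ _
  · intro V W h p
    exact Subtype.ext (res_pullSec a _ _).symm
  · intro V p q
    symm
    apply D_unique
    exact (congrArg (pullSec a) (D_spec i L p q)).trans (pullSec_smul a _ _)

end K858.UnitsCls
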