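import Groth.Agent.PicGrp.K858.UnitsCls
import Groth.Agent.PicGrp.K858.Basic

/-!
# The homomorphism `Pic X → H¹(Y, f_* O_X^×)` and `Pic X ≃ H¹(X, O_X^×)`

* `Good f`: invertible modules on `X` are trivial locally on `Y` (e.g. closed immersions, `good_of_isClosedImmersion`);
* `picEquivZ f hf : Additive (Pic X) ≃+ H¹(Y, f_* O_X^×)`;
* `map_resMap_pic`: compatibility with pullback;
* `picEquivUnits X : Additive (Pic X) ≃+ H¹(X, O_X^×)`.
-/

set_option autoImplicit false
universe u

open CategoryTheory CategoryTheory.Limits AlgebraicGeometry Opposite TopologicalSpace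

namespace K858.UnitsHom

open Groth.Agent.Fdesc.LocGen K858.UnitsCls K858.Basic

variable {X Y Z : Scheme.{u}}

/-- Every invertible module on `X` is trivial locally on `Y`. -/
def Good (f : X ⟶ Y) : Prop := ∀ L : X.Modules, PicF.IsInvertible L → LocTriv f L

theorem good_id (X : Scheme.{u}) : Good (𝟙 X) := fun _ h => locTriv_id h

theorem good_of_isClosedEmbedding (f : X ⟶ Y) (hf : Topology.IsClosedEmbedding f) : Good f := by
  intro L hL y
  by_cases hy : y ∈ Set.range f
  · obtain ⟨x, rfl⟩ := hy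
    obtain ⟨U, e, hx, he⟩ := (isInvertible_iff L).mp hL x
    obtain ⟨V, hV, hVU⟩ := hf.isInducing.isOpen_iff.mp U.2
    let V' : Y.Opens := ⟨V, hV⟩
    have h : f ⁻¹ᵁ V' = U := by
      ext z
      exact Set.ext_iff.mp hVU z
    refine ⟨V', res L h.le e, ?_, he.res _⟩
    change f x ∈ V
    exact (Set.ext_iff.mp hVU x).mpr hx
  · let V' : Y.Opens := ⟨(Set.range f)ᶜ, hf.isClosed_range.isOpen_compl⟩
    have hV : f ⁻¹ᵁ V' = ⊥ := by
      ext z
      change f z ∈ (Set.range f)ᶜ ↔ False
      simp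
    refine ⟨V', 0, hy, ?_⟩
    intro W hW
    have hW0 : W = ⊥ := le_bot_iff.mp (hW.trans hV.le)
    subst hW0
    have h1 : Subsingleton Γ(X, ⊥) := by
      exact CommRingCat.subsingleton_of_isTerminal (TopCat.Sheaf.isTerminalOfEmpty X.sheaf)
    have h2 : Subsingleton Γ(L, ⊥) := Module.subsingleton Γ(X, ⊥) _
    exact ⟨fun a b _ => Subsingleton.elim _ _, fun b => ⟨0, Subsingleton.elim _ _⟩⟩

theorem good_of_isClosedImmersion (f : X ⟶ Y) [IsClosedImmersion f] : Good f :=
  good_of_isClosedEmbedding f f.isClosedEmbedding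

/-- The class of an element of the Picard group. -/
noncomputable def clsPic (f : X ⟶ Y) (hf : Good f) (c : Pic X) : CohTop.H (US f) 1 :=
  Quotient.lift (s := Groth.Agent.Grpsch.PicGrp.isoSetoid X) (fun L => clsZ f L.1 (hf _ L.2))
    (fun L M h => clsZ_congr (hf _ L.2) (hf _ M.2) h.some) c

theorem clsPic_mk (f : X ⟶ Y) (hf : Good f) (L : X.Modules) (hL : PicF.IsInvertible L) :
    clsPic f hf (mk L hL) = clsZ f L (hf L hL) := rfl

/-- The isomorphism `Pic X ≃ H¹(Y, f_* O_X^×)` for good `f`. -/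
noncomputable def picEquivZ (f : X ⟶ Y) (hf : Good f) :
    Additive (Pic X) ≃+ CohTop.H (US f) 1 :=
  AddEquiv.ofBijective (AddMonoidHom.mk' (fun c => clsPic f hf (Additive.toMul c)) (fun a b => by
    change clsPic f hf (Additive.toMul a * Additive.toMul b) = _
    generalize Additive.toMul a = a
    generalize Additive.toMul b = b
    induction a using Groth.Agent.Grpsch.PicGrp.ind with | _ L hL => ?_
    induction b using Groth.Agent.Grpsch.PicGrp.ind with | _ M hM => ?_
    exact clsZ_tens (hf L hL) (hf M hM))) (by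
    constructor
    · rw [injective_iff_map_eq_zero]
      intro c hc
      change Additive.toMul c = 1
      change clsPic f hf (Additive.toMul c) = 0 at hc
      revert hc
      generalize Additive.toMul c = c
      intro hc
      induction c using Groth.Agent.Grpsch.PicGrp.ind with | _ L hL => ?_
      rw [Groth.Agent.Grpsch.PicGrp.mk_eq_one_iff]
      exact nonempty_iso_of_clsZ_eq_zero (hf L hL) hc
    · intro x
      obtain ⟨L, hL, rfl⟩ := exists_clsZ_eq f x
      exact ⟨Additive.ofMul (mk L hL.isInvertible), rfl⟩)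

theorem picEquivZ_mk (f : X ⟶ Y) (hf : Good f) (L : X.Modules) (hL : PicF.IsInvertible L) :
    picEquivZ f hf (Additive.ofMul (mk L hL)) = clsZ f L (hf L hL) := rfl

/-- Compatibility with pullback. -/
theorem map_resMap_pic (a : X ⟶ Y) (i : Y ⟶ Z) (hi : Good i) (hai : Good (a ≫ i)) (c : Pic Y) :
    Sheaf.H.map (resMap a i) 1 (picEquivZ i hi (Additive.ofMul c)) =
      picEquivZ (a ≫ i) hai (Additive.ofMul (pull a c)) := by
  induction c using Groth.Agent.Grpsch.PicGrp.ind with | _ L hL => ?_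
  exact map_resMap a i (hi L hL)

/-- `𝟙_* O_X^× = O_X^×`. -/
noncomputable def usId (X : Scheme.{u}) : US (𝟙 X) ≅ UnitsSh.unitsAb X := eqToIso rfl

/-- `Pic X ≃ H¹(X, O_X^×)`. -/
noncomputable def picEquivUnits (X : Scheme.{u}) :
    Additive (Pic X) ≃+ CohTop.H (UnitsSh.unitsAb X) 1 :=
  picEquivZ (𝟙 X) (good_id X)

end K858.UnitsHom
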